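import Groth.Agent.QCoh.DevissageTheta
import Groth.Agent.QCoh.Serre
import Groth.Agent.QCoh.OpenSub
import Groth.Agent.QCoh.AffineCohom
import Groth.Agent.PnCoh.Finite.SerreVanishing
import Groth.Agent.ModPairLib.Basic

/-!
# Chevalley's theorem: the image of an affine scheme under a finite morphism is affine

By dévissage `H¹` vanishes on coherent modules: at an integral closed subscheme `Z` the push forward
`G` of the structure sheaf of `f⁻¹ Z`, which is affine, has vanishing `H¹`, as do its submodules `J G`.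
-/

set_option autoImplicit false
set_option backward.isDefEq.respectTransparency.types false

universe u

open CategoryTheory CategoryTheory.Limits AlgebraicGeometry TopologicalSpace Opposite
open Groth.Agent.QCoh

namespace Groth.Agent.ChevAffine

variable {X Y : Scheme.{u}}

/-- The direct image of a finite morphism into an integral closed subscheme is killed, at the generic
point, by the maximal ideal. -/
theorem smul_eq_zero_of_mem_maximalIdeal {Z W : Scheme.{u}} (i : Z ⟶ X) [IsIntegral Z] (q : W ⟶ Z)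
    {M : W.Modules} (a : X.presheaf.stalk (i (genericPoint Z)))
    (ha : a ∈ IsLocalRing.maximalIdeal (X.presheaf.stalk (i (genericPoint Z))))
    (m : ((Coh.push (q ≫ i)).obj M).presheaf.stalk (i (genericPoint Z))) : a • m = 0 := by
  let ξ : X := i (genericPoint Z)
  obtain ⟨V, hV, v, rfl⟩ := TopCat.Presheaf.exists_germ_eq ((Coh.push (q ≫ i)).obj M).presheaf m
  obtain ⟨U, hU, s, rfl⟩ := TopCat.Presheaf.exists_germ_eq X.presheaf a
  let W' : X.Opens := U ⊓ V
  have hW : ξ ∈ W' := ⟨hU, hV⟩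
  have hs : i.app W' (X.presheaf.map (homOfLE (inf_le_left : W' ≤ U)).op s) = 0 := by
    haveI : Nonempty ↥(i ⁻¹ᵁ W') := ⟨⟨genericPoint Z, hW⟩⟩
    apply germ_injective_of_isIntegral Z (genericPoint Z) (U := i ⁻¹ᵁ W') hW
    rw [map_zero, ← Scheme.Hom.germ_stalkMap_apply, X.presheaf.germ_res_apply]
    have hmem : i.stalkMap (genericPoint Z) (X.presheaf.germ U ξ hU s) ∈
        IsLocalRing.maximalIdeal (Z.presheaf.stalk (genericPoint Z)) :=
      fun hu => ha ((isUnit_map_iff (i.stalkMap (genericPoint Z)).hom _).1 hu)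
    letI : Field (Z.presheaf.stalk (genericPoint Z)) := inferInstanceAs (Field Z.functionField)
    rwa [IsLocalRing.maximalIdeal_eq_bot, Ideal.mem_bot] at hmem
  rw [← X.presheaf.germ_res_apply (homOfLE (inf_le_left : W' ≤ U)) ξ hW,
    ← ((Coh.push (q ≫ i)).obj M).presheaf.germ_res_apply (homOfLE (inf_le_right : W' ≤ V)) ξ hW,
    ← germ_smul']
  have h0 : (X.presheaf.map (homOfLE (inf_le_left : W' ≤ U)).op s) •
      (((Coh.push (q ≫ i)).obj M).presheaf.map (homOfLE (inf_le_right : W' ≤ V)).op v) = 0 := by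
    show ((q ≫ i).app W' (X.presheaf.map (homOfLE (inf_le_left : W' ≤ U)).op s)) •
      (show Γ(M, (q ≫ i) ⁻¹ᵁ W') from
        ((Coh.push (q ≫ i)).obj M).presheaf.map (homOfLE (inf_le_right : W' ≤ V)).op v) = 0
    have h1 : (q ≫ i).app W' (X.presheaf.map (homOfLE (inf_le_left : W' ≤ U)).op s) = 0 := by
      rw [Scheme.Hom.comp_app]
      exact (congrArg (q.app (i ⁻¹ᵁ W')) hs).trans (map_zero _)
    rw [h1]
    exact zero_smul _ _
  rw [h0, map_zero]

theorem mem_support_push_structure {Z W : Scheme.{u}} (i : Z ⟶ X) [IsIntegral Z] (q : W ⟶ Z) [Surjective q] :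
    i (genericPoint Z) ∈ CohB1.support ((Coh.push (q ≫ i)).obj (Coh.structureModule W)) := by
  let ξ : X := i (genericPoint Z)
  intro hsub
  obtain ⟨V, hV, -⟩ : ∃ V : X.Opens, ξ ∈ V ∧ True := ⟨⊤, trivial, trivial⟩
  let G := (Coh.push (q ≫ i)).obj (Coh.structureModule W)
  have he : G.presheaf.germ V ξ hV (show Γ(G, V) from (1 : Γ(W, (q ≫ i) ⁻¹ᵁ V))) =
      G.presheaf.germ V ξ hV 0 := @Subsingleton.elim _ hsub _ _
  obtain ⟨V', hξ', e, e', hee⟩ := TopCat.Presheaf.germ_eq G.presheaf ξ hV hV _ _ he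
  obtain ⟨w, hw⟩ := q.surjective (genericPoint Z)
  have hwV : w ∈ (q ≫ i) ⁻¹ᵁ V' := by
    show (q ≫ i) w ∈ V'
    rw [Scheme.Hom.comp_apply, hw]
    exact hξ'
  haveI : Nontrivial Γ(W, (q ≫ i) ⁻¹ᵁ V') := (W.presheaf.germ _ w hwV).hom.domain_nontrivial
  refine one_ne_zero (α := Γ(W, (q ≫ i) ⁻¹ᵁ V')) ?_
  calc (1 : Γ(W, (q ≫ i) ⁻¹ᵁ V'))
      = W.presheaf.map ((Opens.map (q ≫ i).base).map e).op (1 : Γ(W, (q ≫ i) ⁻¹ᵁ V)) := (map_one _).symm
    _ = W.presheaf.map ((Opens.map (q ≫ i).base).map e').op (0 : Γ(W, (q ≫ i) ⁻¹ᵁ V)) := hee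
    _ = 0 := map_zero _

/-- For an ideal sheaf `J` not passing through `ξ`, the submodule `J G` of a push forward `G` from an
affine scheme is again a push forward. -/
theorem exists_idealMul_push (f : Y ⟶ X) [IsAffineHom f] [IsAffine Y] (ξ : X) {M : Y.Modules}
    (hM : Coh.IsQCoh M) (J : X.IdealSheafData) (hJ : ξ ∉ (J.support : Set X)) :
    ∃ (G' : X.Modules) (l : G' ⟶ (Coh.push f).obj M), Mono l ∧ Coh.IsQCoh G' ∧
      Subsingleton (Coh.HH X G' 1) ∧
      l ≫ (Scheme.Modules.pullbackPushforwardAdjunction J.subschemeι).unit.app ((Coh.push f).obj M) = 0 ∧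
      Function.Surjective ((TopCat.Presheaf.stalkFunctor _ ξ).map l.mapPresheaf) := by
  let J' := J.comap f
  let v := (Scheme.Modules.pullbackPushforwardAdjunction J'.subschemeι).unit.app M
  have hpb : Coh.IsQCoh ((Scheme.Modules.pullback J'.subschemeι).obj M) := isQCoh_pullback _ hM
  have hK : Coh.IsQCoh (kernel v) := isQCoh_kernel hM (isQCoh_pushforward J'.subschemeι hpb) v
  let l := (Coh.push f).map (kernel.ι v)
  have hG : Coh.IsQCoh ((Coh.push f).obj M) := isQCoh_pushforward f hM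
  have hideal : ∀ U : X.affineOpens, J'.ideal ⟨f ⁻¹ᵁ U.1, U.2.preimage f⟩ = (J.ideal U).map (f.app U.1).hom :=
    fun U => by
      rw [ModPairLib.ideal_comap J f U ⟨f ⁻¹ᵁ U.1, U.2.preimage f⟩ le_rfl, ← Scheme.Hom.app_eq_appLE]
  refine ⟨(Coh.push f).obj (kernel v), l, Functor.map_mono _ _, isQCoh_pushforward f hK, ?_, ?_, ?_⟩
  · obtain ⟨e⟩ := HH_push_of_isAffineHom f hK 1
    have := subsingleton_HH_of_isAffine hK 0
    exact e.toEquiv.symm.subsingleton
  · refine hom_eq_zero_of_affine _ fun U hU x => ?_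
    refine ((unit_app_closed J.subschemeι hG hU).2 (l.app U x)).2 ?_
    rw [Scheme.IdealSheafData.ker_subschemeι]
    have h0 : v.app (f ⁻¹ᵁ U) ((kernel.ι v).app (f ⁻¹ᵁ U) x) = 0 :=
      congr(($(kernel.condition v)).app (f ⁻¹ᵁ U) x)
    have h1 := ((unit_app_closed J'.subschemeι hM (hU.preimage f)).2 _).1 h0
    rw [Scheme.IdealSheafData.ker_subschemeι, hideal ⟨U, hU⟩] at h1
    refine Submodule.smul_induction_on (p := fun (z : Γ(M, f ⁻¹ᵁ U)) =>
      (show Γ((Coh.push f).obj M, U) from z) ∈ J.ideal ⟨U, hU⟩ • (⊤ : Submodule Γ(X, U) Γ((Coh.push f).obj M, U)))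
      h1 (fun b hb m _ => ?_) fun z z' hz hz' => add_mem hz hz'
    refine Submodule.span_induction
      (p := fun b _ => ∀ m : Γ(M, f ⁻¹ᵁ U), (show Γ((Coh.push f).obj M, U) from (show Γ(M, f ⁻¹ᵁ U) from b • m)) ∈
        J.ideal ⟨U, hU⟩ • (⊤ : Submodule Γ(X, U) Γ((Coh.push f).obj M, U))) ?_ ?_ ?_ ?_ hb m
    · rintro _ ⟨a, ha, rfl⟩ m
      exact Submodule.smul_mem_smul ha (Submodule.mem_top (x := (show Γ((Coh.push f).obj M, U) from m)))
    · intro m; rw [zero_smul]; exact zero_mem _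
    · intro b b' _ _ hb hb' m; rw [add_smul]; exact add_mem (hb m) (hb' m)
    · intro c b _ hb m
      rw [smul_eq_mul, mul_comm, mul_smul]
      exact hb (c • m)
  · intro z
    obtain ⟨U₀, hξ₀, y, rfl⟩ := TopCat.Presheaf.exists_germ_eq ((Coh.push f).obj M).presheaf z
    obtain ⟨_, ⟨U, hU, rfl⟩, hξU, hUsub⟩ := X.isBasis_affineOpens.exists_subset_of_mem_open
      (show ξ ∈ ((U₀ : Set X) ∩ (J.support : Set X)ᶜ) from ⟨hξ₀, hJ⟩)
      (U₀.2.inter J.support.2.isOpen_compl)
    have hle : U ≤ U₀ := fun x hx => (hUsub hx).1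
    have hzero : X.zeroLocus (U := U) (J.ideal ⟨U, hU⟩) ∩ U = ∅ := by
      rw [← Scheme.IdealSheafData.coe_support_inter J ⟨U, hU⟩]
      exact Set.eq_empty_of_forall_notMem fun x hx => (hUsub hx.2).2 hx.1
    have htop : J.ideal ⟨U, hU⟩ = ⊤ := by
      rw [← Ideal.span_eq (J.ideal ⟨U, hU⟩), ← hU.iSup_basicOpen_eq_self_iff]
      refine le_antisymm (iSup_le fun g => X.basicOpen_le _) fun x hx => ?_
      by_contra hne
      refine (Set.eq_empty_iff_forall_notMem.1 hzero x) ⟨(Scheme.mem_zeroLocus_iff _ _ _).2 fun g hg hxg => hne ?_, hx⟩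
      exact Opens.mem_iSup.2 ⟨⟨g, hg⟩, hxg⟩
    let y' : Γ(M, f ⁻¹ᵁ U) := ((Coh.push f).obj M).presheaf.map (homOfLE hle).op y
    have hy' : v.app (f ⁻¹ᵁ U) y' = 0 := by
      refine ((unit_app_closed J'.subschemeι hM (hU.preimage f)).2 _).2 ?_
      rw [Scheme.IdealSheafData.ker_subschemeι, hideal ⟨U, hU⟩, htop, Ideal.map_top, Submodule.top_smul]
      trivial
    obtain ⟨x, hx⟩ := exists_app_f_eq
      (S := ShortComplex.mk (kernel.ι v) (Abelian.coimage.π v) (cokernel.condition _))
      (.mk' (ShortComplex.exact_of_g_is_cokernel _ (cokernelIsCokernel _)) inferInstance inferInstance)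
      (f ⁻¹ᵁ U) y' (app_injective (Abelian.factorThruCoimage v) (f ⁻¹ᵁ U) (by
        rw [map_zero]
        exact (congr(($(Abelian.coimage.fac v)).app (f ⁻¹ᵁ U) y') : _).trans hy'))
    refine ⟨((Coh.push f).obj (kernel v)).presheaf.germ U ξ hξU x, ?_⟩
    rw [TopCat.Presheaf.stalkFunctor_map_germ_apply]
    refine Eq.trans ?_ (((Coh.push f).obj M).presheaf.germ_res_apply (homOfLE hle) ξ hξU y)
    exact congrArg _ hx

/-- Coherent modules on a Noetherian scheme receiving a finite surjection from an affine scheme have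
vanishing `H¹`. -/
theorem subsingleton_HH_one (f : Y ⟶ X) [IsFinite f] [Surjective f] [IsAffine Y] [IsNoetherian X]
    {M : X.Modules} (hM : Coh.IsCoh M) : Subsingleton (Coh.HH X M 1) := by
  haveI := hasFiniteBiproducts X
  refine devissage_ideals (fun N => Subsingleton (Coh.HH X N 1))
    (fun A B ⟨e⟩ h => subsingleton_HH_of_iso e 1 h)
    (fun N h => ?_) Set.univ (fun S hS _ _ _ h₁ h₃ => subsingleton_HH_X₂ hS 1 h₁ h₃) ?_ hM (Set.subset_univ _)
  · exact PnCoh.Finite.subsingleton_HH_of_decomposition (ι := PEmpty.{1}) (fun j => j.elim) (fun j => j.elim)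
      (fun j => j.elim) (by simpa using (IsZero.iff_id_eq_zero N).1 h |>.symm) 1 fun j => j.elim
  intro y _ hsmall Z i _ _ hr I ι hι hI hI0
  haveI := hι
  haveI : IsNoetherian Z :=
    { __ := LocallyOfFiniteType.isLocallyNoetherian i
      __ := QuasiCompact.compactSpace_of_compactSpace i }
  let q : pullback f i ⟶ Z := pullback.snd f i
  haveI : IsFinite q := MorphismProperty.pullback_snd (P := (@IsFinite : MorphismProperty Scheme.{u})) _ _ ‹_›
  haveI : Surjective q := MorphismProperty.pullback_snd (P := (@Surjective : MorphismProperty Scheme.{u})) _ _ ‹_›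
  haveI : IsAffine (pullback f i) := isAffine_of_isAffineHom (pullback.fst f i)
  haveI : IsLocallyNoetherian (pullback f i) := LocallyOfFiniteType.isLocallyNoetherian (q ≫ i)
  have hGc : Coh.IsCoh ((Coh.push (q ≫ i)).obj (Coh.structureModule (pullback f i))) :=
    isCoh_pushforward_finite (q ≫ i) isCoh_structureModule'
  have hIc : Coh.IsCoh I := isCoh_of_mono ι isCoh_structureModule' hI
  obtain ⟨r, hr0, J, u, hJ, hu, hmain⟩ := exists_ideal_mul hGc i
    (mem_support_push_structure i q) (fun a ha m => smul_eq_zero_of_mem_maximalIdeal i q a ha m) ι hIc hI0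
  obtain ⟨G', l, hl, hG', hG'H, hlu, hls⟩ :=
    exists_idealMul_push (q ≫ i) (i (genericPoint Z)) isQCoh_structureModule J hJ
  haveI := hl
  obtain ⟨t, ht, hc⟩ := hmain G' l hl hG' (by rw [hu]; exact hlu) hls
  haveI := ht
  have hS := isCoh_biproduct (fun _ : ULift.{u} (Fin r) => (Coh.push i).obj I) fun _ => isCoh_push i hIc
  have hC := isCoh_cokernel hG' hS t
  have hsum : Subsingleton (Coh.HH X (⨁ fun _ : ULift.{u} (Fin r) => (Coh.push i).obj I) 1) := by
    refine subsingleton_HH_X₂ (S := ShortComplex.mk t (cokernel.π t) (cokernel.condition t))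
      (.mk' (ShortComplex.exact_of_g_is_cokernel _ (cokernelIsCokernel t)) ht inferInstance) 1 hG'H
      (hsmall _ hC ?_ ?_)
    · refine (support_of_epi hS.1 hC.1 (cokernel.π t)).trans fun x hx => ?_
      by_contra hx'
      obtain ⟨W, hW, hxW⟩ := exists_affine_mem x
      refine ((notMem_support_iff hS.1 hW hxW).2 fun m => ?_) hx
      have hAx := (notMem_support_iff (isCoh_push i hIc).1 hW hxW).1
        (fun h => hx' (hr.le (support_push_subset i hI h)))
      choose g hg hg0 using fun k => hAx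
        ((biproduct.π (fun _ : ULift.{u} (Fin r) => (Coh.push i).obj I) k).app W m)
      refine ⟨∏ k, g k, ?_, ?_⟩
      · rw [X.mem_basicOpen _ x hxW, map_prod]
        exact IsUnit.prod_univ_iff.2 fun k => (X.mem_basicOpen (g k) x hxW).1 (hg k)
      · rw [biproduct_app_decomp _ W m, Finset.smul_sum]
        refine Finset.sum_eq_zero fun k _ => ?_
        classical
        rw [← Scheme.Modules.Hom.app_smul, ← Finset.mul_prod_erase _ g (Finset.mem_univ k), mul_comm,
          mul_smul, hg0 k, smul_zero, map_zero]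
    · have hy : i (genericPoint Z) = y :=
        (inseparable_iff_closure_eq.2 ((range_eq_closure i).symm.trans hr)).eq
      exact hy ▸ hc
  exact PnCoh.Finite.subsingleton_HH_of_decomposition (ι := PUnit.{1})
    (fun _ => ⨁ fun _ : ULift.{u} (Fin r) => (Coh.push i).obj I)
    (fun _ => biproduct.ι (fun _ : ULift.{u} (Fin r) => (Coh.push i).obj I) ⟨⟨0, hr0⟩⟩)
    (fun _ => biproduct.π (fun _ : ULift.{u} (Fin r) => (Coh.push i).obj I) ⟨⟨0, hr0⟩⟩)
    (by simp) 1 fun _ => hsum

/-- Chevalley: a Noetherian scheme receiving a finite surjection from an affine scheme is affine. -/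
theorem isAffine_of_finite_surjective (f : Y ⟶ X) [IsFinite f] [Surjective f] [IsAffine Y] [IsNoetherian X] :
    IsAffine X :=
  isAffine_of_HH_one fun F i hi hF =>
    haveI := hi
    subsingleton_HH_one f (isCoh_of_mono i isCoh_structureModule' hF)

end Groth.Agent.ChevAffine
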